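import Mathlib
import Groth.Prelude.Def_CycAlg
import Groth.Agent.Lib.Helper9.SubQuotLen2
import Groth.Agent.Lib.Helper2.FinLen

/-!
# Herbrand quotients of `(M, xφ, ψ)` (helper6)
-/

set_option autoImplicit false
set_option linter.unusedSectionVars false
set_option linter.unusedVariables false
set_option linter.unusedSimpArgs false
set_option linter.style.haveILetI false
set_option maxHeartbeats 400000

namespace Groth.Agent.Lib.Helper6.Herb

universe u v

open Groth.Agent.Helper9.SubQuotLen Pointwise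

section

variable {R : Type u} [CommRing R] [IsNoetherianRing R] {M : Type v} [AddCommGroup M]
  [Module R M] [Module.Finite R M]

/-- a submodule killed by `x` has finite length when `M/xM` has zero-dimensional support -/
lemma length_lt_top_of_smul_eq_zero (x : R)
    (hx : Module.supportDim R (M ⧸ x • (⊤ : Submodule R M)) ≤ 0) (T : Submodule R M)
    (hT : ∀ t ∈ T, x • t = 0) : Module.length R T < ⊤ := by
  have hsupp : Module.support R T ⊆ Module.support R (M ⧸ x • (⊤ : Submodule R M)) := by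
    intro p hp
    have h1 : p ∈ Module.support R M := Module.support_subset_of_injective T.subtype
      T.injective_subtype hp
    have h2 : x ∈ p.asIdeal := by
      apply Module.annihilator_le_of_mem_support hp
      rw [Module.mem_annihilator]
      intro t
      apply Subtype.ext
      exact hT t t.2
    have h3 := Module.support_quotient (R := R) (M := M) (Ideal.span {x})
    rw [Submodule.ideal_span_singleton_smul] at h3
    rw [h3]
    refine ⟨h1, ?_⟩
    rw [PrimeSpectrum.mem_zeroLocus]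
    intro y hy
    obtain ⟨c, rfl⟩ := Ideal.mem_span_singleton'.1 hy
    exact Ideal.mul_mem_left _ _ h2
  have hdim : Module.supportDim R T ≤ 0 :=
    le_trans (Order.krullDim_le_of_strictMono (fun a => ⟨a.1, hsupp a.2⟩)
      (fun {_ _} lt => lt)) hx
  have := Groth.Agent.Helper2.FinLen.isFiniteLength_of_supportDim_le_zero hdim
  exact (Module.length_ne_top_iff.2 this).lt_top

lemma length_quot_lt_top (x : R)
    (hx : Module.supportDim R (M ⧸ x • (⊤ : Submodule R M)) ≤ 0) :
    Module.length R (M ⧸ x • (⊤ : Submodule R M)) < ⊤ := by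
  have := Groth.Agent.Helper2.FinLen.isFiniteLength_of_supportDim_le_zero hx
  exact (Module.length_ne_top_iff.2 this).lt_top

variable (φ ψ : M →ₗ[R] M)

/-- the `x`-torsion of the image of `φ` -/
def tors (x : R) : Submodule R M := (LinearMap.ker (x • φ)).map φ

lemma mem_tors {x : R} {n : M} : n ∈ tors φ x ↔ n ∈ LinearMap.range φ ∧ x • n = 0 := by
  constructor
  · rintro ⟨m, hm, rfl⟩
    refine ⟨⟨m, rfl⟩, ?_⟩
    have hm' : m ∈ LinearMap.ker (x • φ) := hm
    rw [LinearMap.mem_ker, LinearMap.smul_apply] at hm'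
    exact hm'
  · rintro ⟨⟨m, rfl⟩, h⟩
    refine ⟨m, ?_, rfl⟩
    show m ∈ LinearMap.ker (x • φ)
    rw [LinearMap.mem_ker, LinearMap.smul_apply]
    exact h

lemma range_smul_le (x : R) : LinearMap.range (x • φ) ≤ LinearMap.range φ := by
  rintro _ ⟨m, rfl⟩
  exact ⟨x • m, by rw [map_smul, LinearMap.smul_apply]⟩

lemma ker_le_ker_smul (x : R) : LinearMap.ker φ ≤ LinearMap.ker (x • φ) := by
  intro m hm
  rw [LinearMap.mem_ker] at hm
  rw [LinearMap.mem_ker, LinearMap.smul_apply, hm, smul_zero]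

lemma sqLen_ker (x : R) :
    sqLen (LinearMap.ker φ) (LinearMap.ker (x • φ)) = Module.length R (tors φ x) := by
  have h := sqLen_map φ (A := LinearMap.ker φ) (B := LinearMap.ker (x • φ))
    (ker_le_ker_smul φ x) inf_le_left
  rw [← h, ← sqLen_bot_left]
  congr 1
  rw [eq_bot_iff, Submodule.map_le_iff_le_comap, Submodule.comap_bot]

lemma sqLen_range_lt_top (x : R)
    (hx : Module.supportDim R (M ⧸ x • (⊤ : Submodule R M)) ≤ 0) :
    sqLen (LinearMap.range (x • φ)) (LinearMap.range φ) < ⊤ := by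
  unfold sqLen
  let π : M →ₗ[R] (↥(LinearMap.range φ) ⧸
      (LinearMap.range (x • φ)).submoduleOf (LinearMap.range φ)) :=
    (Submodule.mkQ _).comp φ.rangeRestrict
  have hπ : Function.Surjective π :=
    (Submodule.mkQ_surjective _).comp φ.surjective_rangeRestrict
  have hker : x • (⊤ : Submodule R M) ≤ LinearMap.ker π := by
    intro m hm
    obtain ⟨m', -, rfl⟩ := hm
    rw [LinearMap.mem_ker]
    show Submodule.Quotient.mk (φ.rangeRestrict (x • m')) = 0
    rw [Submodule.Quotient.mk_eq_zero]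
    show φ (x • m') ∈ LinearMap.range (x • φ)
    exact ⟨m', by rw [LinearMap.smul_apply, map_smul]⟩
  let π' := Submodule.liftQ _ π hker
  have hπ' : Function.Surjective π' := by
    intro y
    obtain ⟨m, rfl⟩ := hπ y
    exact ⟨Submodule.Quotient.mk m, rfl⟩
  exact lt_of_le_of_lt (Module.length_le_of_surjective π' hπ') (length_quot_lt_top x hx)

/-- the Herbrand quotient of `(im φ, 0, x)` in terms of subquotients of `M` -/
lemma herbrand_range (x : R) :
    CycAlg.herbrand R (0 : ↥(LinearMap.range φ) →ₗ[R] ↥(LinearMap.range φ))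
        (x • LinearMap.id) =
      ((sqLen (LinearMap.range (x • φ)) (LinearMap.range φ)).toNat : ℤ) -
        ((Module.length R (tors φ x)).toNat : ℤ) := by
  set N := LinearMap.range φ with hN
  have hinj : LinearMap.ker N.subtype ⊓ (⊤ : Submodule R N) ≤ ⊥ := by
    rw [Submodule.ker_subtype]; exact inf_le_left
  have h1 : Module.length R (CycAlg.perH (0 : ↥N →ₗ[R] ↥N) (x • LinearMap.id)) =
      sqLen (LinearMap.range (x • φ)) N := by
    show sqLen (LinearMap.range (x • (LinearMap.id : ↥N →ₗ[R] ↥N)))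
      (LinearMap.ker (0 : ↥N →ₗ[R] ↥N)) = _
    rw [LinearMap.ker_zero]
    have h := sqLen_map N.subtype (A := LinearMap.range (x • (LinearMap.id : ↥N →ₗ[R] ↥N)))
      (B := ⊤) le_top (by rw [Submodule.ker_subtype]; exact bot_le.trans' inf_le_left)
    rw [← h]
    congr 1
    · ext m
      constructor
      · rintro ⟨_, ⟨n, rfl⟩, rfl⟩
        obtain ⟨m', hm'⟩ := n.2
        refine ⟨m', ?_⟩
        rw [LinearMap.smul_apply, hm']
        rfl
      · rintro ⟨m', rfl⟩
        refine ⟨x • ⟨φ m', ⟨m', rfl⟩⟩, ⟨⟨φ m', ⟨m', rfl⟩⟩, rfl⟩, ?_⟩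
        rfl
    · rw [Submodule.map_top, Submodule.range_subtype]
  have h2 : Module.length R (CycAlg.perH (x • (LinearMap.id : ↥N →ₗ[R] ↥N)) 0) =
      Module.length R (tors φ x) := by
    show sqLen (LinearMap.range (0 : ↥N →ₗ[R] ↥N))
      (LinearMap.ker (x • (LinearMap.id : ↥N →ₗ[R] ↥N))) = _
    rw [LinearMap.range_zero]
    have h := sqLen_map N.subtype (A := ⊥)
      (B := LinearMap.ker (x • (LinearMap.id : ↥N →ₗ[R] ↥N))) bot_le
      (by rw [Submodule.ker_subtype]; exact inf_le_left)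
    rw [← h, Submodule.map_bot, sqLen_bot_left]
    have hT : (LinearMap.ker (x • (LinearMap.id : ↥N →ₗ[R] ↥N))).map N.subtype = tors φ x := by
      ext m
      rw [mem_tors]
      constructor
      · rintro ⟨n, hn, rfl⟩
        refine ⟨n.2, ?_⟩
        have hn' : n ∈ LinearMap.ker (x • (LinearMap.id : ↥N →ₗ[R] ↥N)) := hn
        rw [LinearMap.mem_ker, LinearMap.smul_apply, LinearMap.id_apply] at hn'
        exact congrArg Subtype.val hn'
      · rintro ⟨hm, hxm⟩
        refine ⟨⟨m, hm⟩, ?_, rfl⟩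
        show (⟨m, hm⟩ : ↥N) ∈ LinearMap.ker (x • (LinearMap.id : ↥N →ₗ[R] ↥N))
        rw [LinearMap.mem_ker, LinearMap.smul_apply, LinearMap.id_apply]
        exact Subtype.ext hxm
    rw [hT]
  unfold CycAlg.herbrand
  rw [h1, h2]

/-- **Main lemma** -/
theorem herbrand_smul_left (hper : CycAlg.IsPeriodic φ ψ) (hfin : CycAlg.FinCoh R φ ψ) (x : R)
    (hx : Module.supportDim R (M ⧸ x • (⊤ : Submodule R M)) ≤ 0) :
    CycAlg.FinCoh R (x • φ) ψ ∧
      CycAlg.herbrand R (x • φ) ψ = CycAlg.herbrand R φ ψ -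
        CycAlg.herbrand R (0 : ↥(LinearMap.range φ) →ₗ[R] ↥(LinearMap.range φ))
          (x • LinearMap.id) := by
  have hψφ : LinearMap.range ψ ≤ LinearMap.ker φ := by
    rintro _ ⟨m, rfl⟩
    rw [LinearMap.mem_ker]
    exact LinearMap.congr_fun hper.1 m
  have hφψ : LinearMap.range φ ≤ LinearMap.ker ψ := by
    rintro _ ⟨m, rfl⟩
    rw [LinearMap.mem_ker]
    exact LinearMap.congr_fun hper.2 m
  have hH0 : Module.length R (CycAlg.perH φ ψ) = sqLen (LinearMap.range ψ) (LinearMap.ker φ) := rfl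
  have hH1 : Module.length R (CycAlg.perH ψ φ) = sqLen (LinearMap.range φ) (LinearMap.ker ψ) := rfl
  have hH0' : Module.length R (CycAlg.perH (x • φ) ψ) =
      sqLen (LinearMap.range ψ) (LinearMap.ker (x • φ)) := rfl
  have hH1' : Module.length R (CycAlg.perH ψ (x • φ)) =
      sqLen (LinearMap.range (x • φ)) (LinearMap.ker ψ) := rfl
  have e0 : sqLen (LinearMap.range ψ) (LinearMap.ker (x • φ)) =
      sqLen (LinearMap.range ψ) (LinearMap.ker φ) + Module.length R (tors φ x) := by
    rw [sqLen_add hψφ (ker_le_ker_smul φ x), sqLen_ker]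
  have e1 : sqLen (LinearMap.range (x • φ)) (LinearMap.ker ψ) =
      sqLen (LinearMap.range (x • φ)) (LinearMap.range φ) +
        sqLen (LinearMap.range φ) (LinearMap.ker ψ) :=
    sqLen_add (range_smul_le φ x) hφψ
  have f0 : Module.length R (tors φ x) < ⊤ :=
    length_lt_top_of_smul_eq_zero x hx _ (fun t ht => (mem_tors φ).1 ht |>.2)
  have f1 := sqLen_range_lt_top φ x hx
  obtain ⟨g0, g1⟩ := hfin
  rw [hH0] at g0
  rw [hH1] at g1
  refine ⟨⟨?_, ?_⟩, ?_⟩
  · rw [hH0', e0]
    exact ENat.add_lt_top.2 ⟨g0, f0⟩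
  · rw [hH1', e1]
    exact ENat.add_lt_top.2 ⟨f1, g1⟩
  · rw [herbrand_range]
    unfold CycAlg.herbrand
    rw [hH0', hH1', hH0, hH1, e0, e1, ENat.toNat_add g0.ne f0.ne, ENat.toNat_add f1.ne g1.ne]
    push_cast
    ring

theorem herbrand_smul_right (hper : CycAlg.IsPeriodic φ ψ) (hfin : CycAlg.FinCoh R φ ψ) (x : R)
    (hx : Module.supportDim R (M ⧸ x • (⊤ : Submodule R M)) ≤ 0) :
    CycAlg.FinCoh R φ (x • ψ) ∧
      CycAlg.herbrand R φ (x • ψ) = CycAlg.herbrand R φ ψ +
        CycAlg.herbrand R (0 : ↥(LinearMap.range ψ) →ₗ[R] ↥(LinearMap.range ψ))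
          (x • LinearMap.id) := by
  obtain ⟨h1, h2⟩ := herbrand_smul_left ψ φ ⟨hper.2, hper.1⟩ ⟨hfin.2, hfin.1⟩ x hx
  refine ⟨⟨h1.2, h1.1⟩, ?_⟩
  have e1 : CycAlg.herbrand R φ (x • ψ) = - CycAlg.herbrand R (x • ψ) φ := by
    unfold CycAlg.herbrand; ring
  have e2 : CycAlg.herbrand R ψ φ = - CycAlg.herbrand R φ ψ := by
    unfold CycAlg.herbrand; ring
  rw [e1, h2, e2]
  ring

end

end Groth.Agent.Lib.Helper6.Herb
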